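import Groth.Agent.Lib.RefHull.NormalAlg
import Mathlib.RingTheory.DiscreteValuationRing.Basic
import Mathlib.RingTheory.Localization.AtPrime.Basic
import Mathlib.RingTheory.LocalRing.MaximalIdeal.Basic

/-!
# Powers of lifts in normal local rings
-/

set_option autoImplicit false

universe u

open IsLocalRing

namespace Groth.Agent.Lib.CohFlat74.Alg

/-- Divisibility in a normal Noetherian domain is tested at the height one primes. -/
theorem exists_height_one_not_dvd {B : Type u} [CommRing B] [IsDomain B] [IsNoetherianRing B]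
    [IsIntegrallyClosed B] {c f : B} (hc : c ≠ 0) (hf : ¬ c ∣ f) :
    ∃ (P : Ideal B) (_ : P.IsPrime), P.height = 1 ∧ c ∈ P ∧
      ¬ algebraMap B (Localization.AtPrime P) c ∣ algebraMap B (Localization.AtPrime P) f := by
  by_contra h
  push Not at h
  let K := FractionRing B
  have hcK : algebraMap B K c ≠ 0 := (map_ne_zero_iff _ (IsFractionRing.injective B K)).mpr hc
  obtain ⟨x, hx⟩ := Groth.Agent.Lib.RefHull.NormalAlg.mem_range_of_forall_height_one
    (R := B) (algebraMap B K f / algebraMap B K c) (fun P hP h1 => by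
      by_cases hcP : c ∈ P
      · obtain ⟨y, hy⟩ := h P hP h1 hcP
        obtain ⟨b, s, rfl⟩ := IsLocalization.exists_mk'_eq P.primeCompl y
        rw [← IsLocalization.mk'_one (M := P.primeCompl) (Localization.AtPrime P) f,
          ← IsLocalization.mk'_one (M := P.primeCompl) (Localization.AtPrime P) c,
          ← IsLocalization.mk'_mul, one_mul, IsLocalization.mk'_eq_iff_eq'] at hy
        have hy' := IsLocalization.injective (Localization.AtPrime P) P.primeCompl_le_nonZeroDivisors hy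
        refine ⟨b, s, s.2, ?_⟩
        rw [← mul_div_assoc, div_eq_iff hcK, ← map_mul, ← map_mul]
        congr 1
        simp only [Submonoid.coe_one, mul_one, one_mul] at hy'
        linear_combination hy'
      · exact ⟨f, c, hcP, mul_div_cancel₀ _ hcK⟩)
  refine hf ⟨x, IsFractionRing.injective B K ?_⟩
  rw [map_mul, hx, mul_div_cancel₀ _ hcK]

section Normal

variable {O : Type u} [CommRing O] [IsDomain O] [IsIntegrallyClosed O] {π G : O} {a M : ℕ}

/-- Divisibility of the power only depends on the element modulo `π`. -/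
theorem dvd_pow_add (haM : a ≤ M) (hM : M ≠ 0) (h : π ^ a ∣ G ^ M) (r : O) : π ^ a ∣ (G + π * r) ^ M := by
  rw [add_pow]
  refine Finset.dvd_sum fun j hj => dvd_mul_of_dvd_left ?_ _
  have hjM : j ≤ M := Nat.lt_succ_iff.mp (Finset.mem_range.mp hj)
  rw [mul_pow, ← mul_assoc]
  refine dvd_mul_of_dvd_left ((IsIntegrallyClosed.pow_dvd_pow_iff hM).mp ?_) _
  rw [mul_pow, ← pow_mul π a M, ← pow_mul π (M - j) M, ← pow_mul G, mul_comm j M, pow_mul G]
  have h1 : π ^ (a * j) ∣ (G ^ M) ^ j := by rw [pow_mul]; exact pow_dvd_pow_of_dvd h j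
  refine dvd_trans ?_ (mul_dvd_mul_right h1 _)
  rw [← pow_add]
  refine pow_dvd_pow π ?_
  obtain ⟨i, rfl⟩ := Nat.exists_eq_add_of_le hjM
  rw [Nat.add_sub_cancel_left]
  nlinarith [Nat.mul_le_mul_right i haM]

variable [IsLocalRing O]

/-- A perturbation modulo `π` is a small relative perturbation. -/
theorem exists_small (hπ : π ≠ 0) (hπu : ¬ IsUnit π) (haM : a < M) {w : O} (hw : IsUnit w)
    (hG : G ^ M = π ^ a * w) (r : O) : ∃ e : O, ¬ IsUnit e ∧ π * r = G * e := by
  have h : G ^ M ∣ (π * r) ^ M := by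
    obtain ⟨w, rfl⟩ := hw
    rw [hG, Units.mul_right_dvd, mul_pow]
    exact dvd_mul_of_dvd_left (pow_dvd_pow π haM.le) _
  obtain ⟨e, he⟩ := (IsIntegrallyClosed.pow_dvd_pow_iff (by omega)).mp h
  refine ⟨e, fun hu => hπu ?_, he⟩
  have h1 : (π * r) ^ M = π ^ a * (w * e ^ M) := by rw [he, mul_pow, hG, mul_assoc]
  have h2 : π ^ (M - a) * r ^ M = w * e ^ M := mul_left_cancel₀ (pow_ne_zero a hπ) (by
    rw [← h1, mul_pow, ← mul_assoc, ← pow_add, Nat.add_sub_cancel' haM.le])
  exact (isUnit_pow_iff (by omega : M - a ≠ 0)).mp (isUnit_of_mul_isUnit_left (h2 ▸ hw.mul (hu.pow M)))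

/-- Two approximate roots which are equal to first order agree to high order. -/
theorem dvd_sub_of_pow (hπ : π ≠ 0) {w : O} (hw : IsUnit w) (hG : G ^ M = π ^ a * w) (hM : IsUnit (M : O))
    {s s' : O} (hs : s - 1 ∈ maximalIdeal O) (hs' : s' - 1 ∈ maximalIdeal O) {L : ℕ} (haL : a ≤ L)
    (h : π ^ L ∣ (G * s) ^ M - (G * s') ^ M) : π ^ (L - a) ∣ G * s - G * s' := by
  have hM0 : M ≠ 0 := fun h0 => not_isUnit_zero (M₀ := O) (by simpa [h0] using hM)
  let S := ∑ i ∈ Finset.range M, s ^ i * s' ^ (M - 1 - i)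
  have hS : IsUnit S := by
    rw [← notMem_maximalIdeal, ← IsLocalRing.residue_eq_zero_iff]
    have h1 : ∀ t : O, t - 1 ∈ maximalIdeal O → residue O t = 1 := fun t ht => by
      rw [← map_one (residue O), ← sub_eq_zero, ← map_sub, IsLocalRing.residue_eq_zero_iff]
      exact ht
    simp only [S, map_sum, map_mul, map_pow, h1 s hs, h1 s' hs', one_pow, one_mul, Finset.sum_const,
      Finset.card_range, nsmul_eq_mul, mul_one, ← map_natCast (residue O)]
    rw [IsLocalRing.residue_eq_zero_iff, notMem_maximalIdeal]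
    exact hM
  have hfac : (s - s') * S = s ^ M - s' ^ M := by
    rw [mul_comm]; exact geom_sum₂_mul s s' M
  rw [mul_pow, mul_pow, ← mul_sub, ← hfac, hG] at h
  have h2 : π ^ (L - a) ∣ s - s' := by
    rw [show L = a + (L - a) by omega, pow_add, mul_assoc,
      mul_dvd_mul_iff_left (pow_ne_zero a hπ)] at h
    obtain ⟨w, rfl⟩ := hw
    rw [IsUnit.dvd_mul_left w.isUnit, IsUnit.dvd_mul_right hS] at h
    exact h
  rw [← mul_sub]
  exact dvd_mul_of_dvd_right h2 _

end Normal

/-- In a discrete valuation ring, a nonunit ratio is divisible by `π`. -/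
theorem dvd_of_dvr {O : Type u} [CommRing O] [IsDomain O] [IsDiscreteValuationRing O] {π ϖ G w : O}
    (hϖ : Irreducible ϖ) {m a M : ℕ} (hπ : Associated π (ϖ ^ m)) (hmM : m ∣ M)
    (hG : G ^ M = π ^ a * w) (hw : ¬ IsUnit w) : π ∣ w := by
  rcases eq_or_ne w 0 with rfl | hw0
  · exact dvd_zero π
  obtain ⟨k, hk⟩ := IsDiscreteValuationRing.associated_pow_irreducible hw0 hϖ
  refine hπ.dvd.trans ((pow_dvd_pow ϖ ?_).trans hk.symm.dvd)
  have hM0 : G ≠ 0 ∨ M = 0 := by
    by_contra hc
    push Not at hc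
    rw [hc.1, zero_pow hc.2] at hG
    exact mul_ne_zero (pow_ne_zero a (hπ.ne_zero_iff.mpr (pow_ne_zero m hϖ.ne_zero))) hw0 hG.symm
  have h1 : Associated (G ^ M) (ϖ ^ (m * a + k)) := by
    rw [hG, pow_add, pow_mul]; exact hπ.pow_pow.mul_mul hk
  obtain ⟨i, hi⟩ : ∃ i, M * i = m * a + k := by
    rcases hM0 with hG0 | hM0
    · obtain ⟨i, hi⟩ := IsDiscreteValuationRing.associated_pow_irreducible hG0 hϖ
      refine ⟨i, ?_⟩
      have h3 := (hi.pow_pow (n := M)).symm.trans h1
      rw [← pow_mul] at h3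
      have := le_antisymm ((pow_dvd_pow_iff hϖ.ne_zero hϖ.not_isUnit).mp h3.dvd)
        ((pow_dvd_pow_iff hϖ.ne_zero hϖ.not_isUnit).mp h3.symm.dvd)
      rw [mul_comm]; exact this
    · refine ⟨0, ?_⟩
      rw [hM0, pow_zero] at h1
      have := (pow_dvd_pow_iff hϖ.ne_zero hϖ.not_isUnit).mp (show ϖ ^ (m * a + k) ∣ ϖ ^ 0 by
        rw [pow_zero]; exact h1.symm.dvd)
      omega
  have hk0 : k ≠ 0 := fun h0 => hw (hk.symm.isUnit (by rw [h0, pow_zero]; exact isUnit_one))
  have hmk : m ∣ k := by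
    have h2 : m ∣ m * a + k := hi ▸ hmM.mul_right i
    exact (Nat.dvd_add_right (dvd_mul_right m a)).mp h2
  exact Nat.le_of_dvd (Nat.pos_of_ne_zero hk0) hmk

end Groth.Agent.Lib.CohFlat74.Alg
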