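import Groth.Agent.Lib.CohFlat74.Glue

/-!
# Cohomological flatness in degree zero of normal proper flat schemes over a discrete valuation ring

With connected closed fibre, and residue characteristic zero or a section, every function on the closed
fibre is the restriction of a constant.
-/

set_option autoImplicit false
set_option linter.style.haveILetI false
set_option backward.isDefEq.respectTransparency.types false

universe u

open CategoryTheory Limits AlgebraicGeometry IsLocalRing TopologicalSpace Opposite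

namespace Groth.Agent.Lib.CohFlat74.Final

open Groth.Agent.Lib Groth.Agent.Lib.ModelFibre
open Groth.Agent.Lib.CohFlat74.Sections (Y ι bπ)
open Groth.Agent.Lib.CohFlat74.Main (Z jZ cZ redI)
open Groth.Agent.Lib.CohFlat74.Glue

noncomputable section

variable {R : Type u} [CommRing R] [IsDomain R] [IsDiscreteValuationRing R]
  (X : Over (Spec (CommRingCat.of R))) [Flat X.hom] [IsProper X.hom] [IsIntegral X.left] {π : R}
  (hπ : Irreducible π) (hn : Pi1.IsNormalScheme X.left)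
  (hconn : _root_.IsConnected (Models.specialFibreSet R X))
  (hbij : Function.Bijective (Coh.toGlobal X.hom))

omit [IsDomain R] [IsDiscreteValuationRing R] [Flat X.hom] [IsProper X.hom] [IsIntegral X.left] in
theorem app_cW {T : Scheme.{u}} (j : T ⟶ X.left) (W : X.left.Opens) (r : R) :
    j.app W (cW X W r) =
      T.presheaf.map (homOfLE (le_top : j ⁻¹ᵁ W ≤ ⊤)).op (j.appTop (Coh.toGlobal X.hom r)) :=
  congr($(j.naturality (homOfLE (le_top : W ≤ ⊤)).op) (Coh.toGlobal X.hom r))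

theorem cZ_eq (r : R) : cZ X r = (redI X).subschemeι.appTop (Coh.toGlobal X.hom r) := by
  rw [← Main.jZ_ι, Scheme.Hom.comp_appTop]
  rfl

theorem isUnit_natCast [CharZero (ResidueField R)] {M : ℕ} (hM : M ≠ 0) : IsUnit (M : R) := by
  rw [← notMem_maximalIdeal, ← IsLocalRing.residue_eq_zero_iff, map_natCast]
  exact Nat.cast_ne_zero.mpr hM

include hπ in
/-- Approximate roots of the local units. -/
theorem exists_root [CharZero (ResidueField R)] {θ : Γ(Y X, ⊤)} {a M : ℕ} (haM : a < M) {L : ℕ} (hL : L ≠ 0)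
    {z : Y X} (d : Dat X π θ a M z) {φ : Γ(Z X, ⊤)}
    (hφ : (Z X).presheaf.map (homOfLE (le_top : (redI X).subschemeι ⁻¹ᵁ d.W ≤ ⊤)).op φ =
      (redI X).subschemeι.app d.W d.w)
    (hu : ∀ (z' : Y X) (hz : ι X z' ∈ d.W), IsUnit (X.left.presheaf.germ d.W (ι X z') hz d.w))
    (r₀ : R) (hr₀ : φ = cZ X r₀) :
    ∃ s : Γ(X.left, d.W), cW X d.W π ^ L ∣ d.w * s ^ M - cW X d.W r₀ ∧
      ∀ (z' : Y X) (hz : ι X z' ∈ d.W),
        X.left.presheaf.germ d.W (ι X z') hz s - 1 ∈ maximalIdeal _ := by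
  have hW := d.hW
  obtain ⟨s, hs, hs1⟩ := Main.exists_root_lift (cW X d.W π) d.w (cW X d.W r₀) M L
    hL fun P hP hp => by
    have hx : hW.fromSpec ⟨P, hP⟩ ∈ d.W := hW.range_fromSpec.le ⟨_, rfl⟩
    have hpx := (mem_prime_iff X hW P hP hx _).mpr hp
    rw [germ_cW] at hpx
    obtain ⟨z', hz'⟩ := Sections.exists_point X hπ _ hpx
    have hz'W : ι X z' ∈ d.W := hz' ▸ hx
    refine ⟨fun hw => ?_, (mem_prime_iff X hW P hP hx _).mp ?_, fun hM => ?_⟩
    · refine (mem_prime_iff X hW P hP hx _).mpr hw ?_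
      have key : ∀ (x : X.left) (hx : x ∈ d.W), x = ι X z' →
          IsUnit (X.left.presheaf.germ d.W x hx d.w) := by
        rintro x hx rfl
        exact hu z' hx
      exact key _ hx hz'.symm
    · intro hux
      have h0 : (redI X).subschemeι.app d.W (d.w - cW X d.W r₀) = 0 := by
        rw [map_sub, ← hφ, hr₀, app_cW, cZ_eq, sub_self]
      obtain ⟨y, rfl⟩ := (jZ X).surjective z'
      have h1 : y ∈ (redI X).subschemeι ⁻¹ᵁ X.left.basicOpen (d.w - cW X d.W r₀) := by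
        show (redI X).subschemeι y ∈ X.left.basicOpen (U := d.W) (d.w - cW X d.W r₀)
        rw [← Main.jZ_ι, Scheme.Hom.comp_apply, hz']
        exact (Scheme.mem_basicOpen X.left (U := d.W) (d.w - cW X d.W r₀) (hW.fromSpec ⟨P, hP⟩) hx).mpr hux
      rw [Scheme.preimage_basicOpen, h0, Scheme.basicOpen_zero] at h1
      exact h1
    · have hMR : IsUnit (M : R) := isUnit_natCast (by omega)
      exact hP.ne_top (P.eq_top_of_isUnit_mem hM (by
        rw [← map_natCast (cW X d.W)]; exact hMR.map _))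
  refine ⟨s, hs, fun z' hz => ?_⟩
  rw [mem_maximalIdeal, mem_nonunits_iff, ← map_one (X.left.presheaf.germ d.W (ι X z') hz).hom, ← map_sub]
  obtain ⟨⟨P, hP⟩, hPx⟩ : ∃ p, hW.fromSpec p = ι X z' := by
    have := hW.range_fromSpec.ge hz
    exact this
  have key : ∀ (x : X.left) (hx : x ∈ d.W), hW.fromSpec ⟨P, hP⟩ = x → ¬ IsUnit (bπ X π x) →
      ¬ IsUnit (X.left.presheaf.germ d.W x hx (s - 1)) := by
    rintro x hx rfl hb
    exact (mem_prime_iff X hW P hP hx _).mpr (hs1 P hP ((mem_prime_iff X hW P hP hx _).mp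
      (fun h => hb (by rw [germ_cW] at h; exact h))))
  exact key _ hz hPx (Sections.not_isUnit X hπ z')

include hπ hn in
/-- The lifts corrected by approximate roots agree to high order. -/
theorem dvd_diff [CharZero (ResidueField R)] {θ : Γ(Y X, ⊤)} {a M L : ℕ} (haM : a < M) {r₀ : R}
    {z₁ z₂ : Y X} (d₁ : Dat X π θ a M z₁) (d₂ : Dat X π θ a M z₂) (s₁ : Γ(X.left, d₁.W)) (s₂ : Γ(X.left, d₂.W))
    (hd₁ : cW X d₁.W π ^ L ∣ d₁.w * s₁ ^ M - cW X d₁.W r₀)
    (hd₂ : cW X d₂.W π ^ L ∣ d₂.w * s₂ ^ M - cW X d₂.W r₀)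
    (z : Y X) (hz₁ : ι X z ∈ d₁.W) (hz₂ : ι X z ∈ d₂.W)
    (hu : IsUnit (X.left.presheaf.germ d₁.W (ι X z) hz₁ d₁.w))
    (ht₁ : X.left.presheaf.germ d₁.W (ι X z) hz₁ s₁ - 1 ∈ maximalIdeal _)
    (ht₂ : X.left.presheaf.germ d₂.W (ι X z) hz₂ s₂ - 1 ∈ maximalIdeal _) :
    bπ X π (ι X z) ^ L ∣ X.left.presheaf.germ d₁.W (ι X z) hz₁ (d₁.g * s₁) -
      X.left.presheaf.germ d₂.W (ι X z) hz₂ (d₂.g * s₂) := by
  haveI := (hn (ι X z)).1
  haveI := (hn (ι X z)).2
  rw [map_mul, map_mul]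
  obtain ⟨r, hr⟩ := Sections.exists_eq_add X hπ z
    ((lift_germ X d₁.hg z hz₁).trans (lift_germ X d₂.hg z hz₂).symm)
  have h1 := d₁.germ_pow X (ι X z) hz₁
  have hroot : ∀ {z' : Y X} (d : Dat X π θ a M z') (s : Γ(X.left, d.W)) (hz : ι X z ∈ d.W),
      cW X d.W π ^ L ∣ d.w * s ^ M - cW X d.W r₀ → bπ X π (ι X z) ^ (a + L) ∣
        (X.left.presheaf.germ d.W (ι X z) hz d.g * X.left.presheaf.germ d.W (ι X z) hz s) ^ M -
        bπ X π (ι X z) ^ a * Stalk.baseHom X.hom (ι X z) r₀ := fun d s hz hs => by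
    have h := map_dvd (X.left.presheaf.germ d.W (ι X z) hz).hom hs
    rw [map_pow, germ_cW, map_sub, map_mul, map_pow, germ_cW] at h
    rw [mul_pow, d.germ_pow X _ hz, mul_assoc, ← mul_sub, pow_add]
    exact mul_dvd_mul_left _ h
  have hMu : IsUnit (M : X.left.presheaf.stalk (ι X z)) := by
    rw [← map_natCast (Stalk.baseHom X.hom (ι X z))]
    exact (isUnit_natCast (by omega)).map _
  have h4 := dvd_sub (hroot d₁ s₁ hz₁ hd₁) (hroot d₂ s₂ hz₂ hd₂)
  rw [sub_sub_sub_cancel_right] at h4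
  revert h4 hr h1 hu ht₁ ht₂
  generalize X.left.presheaf.germ d₁.W (ι X z) hz₁ d₁.g = G
  generalize X.left.presheaf.germ d₂.W (ι X z) hz₂ d₂.g = G'
  generalize X.left.presheaf.germ d₁.W (ι X z) hz₁ d₁.w = w
  generalize X.left.presheaf.germ d₁.W (ι X z) hz₁ s₁ = S
  generalize X.left.presheaf.germ d₂.W (ι X z) hz₂ s₂ = S'
  intro hu ht₁ ht₂ hr h1 h4
  have hb := Sections.bπ_ne_zero X hπ (ι X z)
  obtain ⟨e, he, hre⟩ := Alg.exists_small hb (Sections.not_isUnit X hπ z) haM hu h1 r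
  have hG' : G' * S' = G * ((1 + e) * S') := by rw [hr, hre]; ring
  have ht : (1 + e) * S' - 1 ∈ maximalIdeal _ := by
    rw [show (1 + e) * S' - 1 = (S' - 1) + e * S' by ring]
    exact Ideal.add_mem _ ht₂ (Ideal.mul_mem_right _ _ ((mem_maximalIdeal _).mpr he))
  rw [hG'] at h4 ⊢
  have h3 := Alg.dvd_sub_of_pow hb hu h1 hMu ht₁ ht (Nat.le_add_right a L) h4
  rwa [Nat.add_sub_cancel_left] at h3

include hπ hbij in
/-- A function on a fixed thickening restricts to a constant on the closed fibre. -/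
theorem exists_bound' : ∃ N : ℕ, ∀ u : Γ((LiftH0.powI X (N + 1)).subscheme, ⊤),
    ∃ (r : R) (j : Y X ⟶ (LiftH0.powI X (N + 1)).subscheme),
      j ≫ (LiftH0.powI X (N + 1)).subschemeι = ι X ∧
      (ι X).appTop (Coh.toGlobal X.hom r) = j.appTop u := by
  obtain ⟨N, hN⟩ := LiftH0.exists_bound X hπ
  refine ⟨N, fun u => ?_⟩
  obtain ⟨ρ, hρ⟩ := SurfInt.Seq.exists_descend (LiftH0.powI_le X (Nat.le_add_left 1 N))
  obtain ⟨b, hb⟩ := hN ρ hρ ((Curves.GlobalSections.h0Equiv (_root_.ClSub.quotMod (LiftH0.powI X (N + 1)))).symm u)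
  obtain ⟨r, hr⟩ := hbij.2 (Curves.GlobalSections.h0Equiv (Coh.structureModule X.left) b)
  let j : Y X ⟶ (LiftH0.powI X (N + 1)).subscheme :=
    IsClosedImmersion.lift (LiftH0.powI X (N + 1)).subschemeι (LiftH0.powI X 1).subschemeι
    (by rw [Scheme.IdealSheafData.ker_subschemeι, Scheme.IdealSheafData.ker_subschemeι]
        exact LiftH0.powI_le X (Nat.le_add_left 1 N))
  have hj : j ≫ (LiftH0.powI X (N + 1)).subschemeι = (LiftH0.powI X 1).subschemeι :=
    IsClosedImmersion.lift_fac _ _ _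
  refine ⟨r, j, hj, ?_⟩
  have h := congrArg (Curves.GlobalSections.h0Equiv (_root_.ClSub.quotMod (LiftH0.powI X 1))) hb
  rw [ProjKoszul.Regularity.h0Equiv_mapK, ClSub.Sections.toSubscheme_app, ← hr] at h
  refine h.trans ?_
  rw [ProjKoszul.Regularity.h0Equiv_mapK]
  refine (DivisorField.descend_app_top hρ j hj _).trans ?_
  exact congrArg j.appTop ((Curves.GlobalSections.h0Equiv (_root_.ClSub.quotMod (LiftH0.powI X (N + 1)))).apply_symm_apply u)

include hπ hn hbij in
/-- In residue characteristic zero roots can be extracted, so `θ` vanishes. -/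
theorem eq_zero_of_units [CharZero (ResidueField R)] {θ : Γ(Y X, ⊤)} {a M : ℕ} (ha : a ≠ 0) (haM : a < M)
    (d : ∀ z : Y X, Dat X π θ a M z) {φ : Γ(Z X, ⊤)}
    (hφ : ∀ z, (Z X).presheaf.map (homOfLE (le_top : (redI X).subschemeι ⁻¹ᵁ (d z).W ≤ ⊤)).op φ =
      (redI X).subschemeι.app (d z).W (d z).w)
    (hu : ∀ (z z' : Y X) (hz : ι X z' ∈ (d z).W), IsUnit (X.left.presheaf.germ (d z).W (ι X z') hz (d z).w))
    (r₀ : R) (hr₀ : φ = cZ X r₀) : θ = 0 := by
  obtain ⟨N, hN⟩ := exists_bound' X hπ hbij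
  choose s hs hs1 using fun z => exists_root X hπ haM (Nat.succ_ne_zero N) (d z) (hφ z) (hu z) r₀ hr₀
  -- the roots glue on a thickening
  let T := (LiftH0.powI X (N + 1)).subscheme
  let ιT : T ⟶ X.left := (LiftH0.powI X (N + 1)).subschemeι
  let U : Y X → T.Opens := fun z => ιT ⁻¹ᵁ (d z).W
  have hcov : (⊤ : T.Opens) ≤ iSup U := fun y _ => by
    obtain ⟨z, hz⟩ := mem_fibre_or X hπ (N + 1) y
    refine Opens.mem_iSup.mpr ⟨z, ?_⟩
    show ιT y ∈ (d z).W
    exact hz ▸ (d z).hz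
  obtain ⟨u, hu', -⟩ := T.sheaf.existsUnique_gluing' U ⊤ (fun z => homOfLE le_top) hcov
    (fun z => ιT.app (d z).W ((d z).g * s z)) (fun z₁ z₂ => by
      let V := (d z₁).W ⊓ (d z₂).W
      have h := app_eq_zero X hπ (N + 1) (X.left.presheaf.map (homOfLE (inf_le_left : V ≤ _)).op ((d z₁).g * s z₁) -
        X.left.presheaf.map (homOfLE (inf_le_right : V ≤ _)).op ((d z₂).g * s z₂)) fun z hz => by
          rw [map_sub, germ_res, germ_res]
          exact dvd_diff X hπ hn haM (d z₁) (d z₂) _ _ (hs z₁) (hs z₂) z hz.1 hz.2 (hu z₁ z hz.1)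
            (hs1 z₁ z hz.1) (hs1 z₂ z hz.2)
      rw [map_sub, sub_eq_zero] at h
      exact ((congr($(ιT.naturality (homOfLE (inf_le_left : V ≤ _)).op) ((d z₁).g * s z₁))).symm.trans
        h).trans (congr($(ιT.naturality (homOfLE (inf_le_right : V ≤ _)).op) ((d z₂).g * s z₂))))
  -- so they come from a constant
  obtain ⟨r, j, hj, hbr⟩ := hN u
  refine eq_zero_of_dvd X hπ θ fun z => ⟨_, lift_germ X (d z).hg z (d z).hz, ?_⟩
  have h0 : (ι X).app (d z).W ((d z).g * s z - cW X (d z).W r) = 0 := by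
    rw [map_sub, app_cW, hbr, sub_eq_zero]
    exact (DivisorField.appTop_restrict j ιT (ι X) hj (d z).W u ((d z).g * s z) (hu' z).symm).symm
  have h1 := congrArg ((Y X).presheaf.germ (ι X ⁻¹ᵁ (d z).W) z (d z).hz) h0
  rw [map_zero, ← Scheme.Hom.germ_stalkMap_apply, ← RingHom.mem_ker, Sections.ker_stalk X hπ,
    Ideal.mem_span_singleton, map_sub, map_mul, germ_cW] at h1
  set G := X.left.presheaf.germ (d z).W (ι X z) (d z).hz (d z).g
  set S := X.left.presheaf.germ (d z).W (ι X z) (d z).hz (s z)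
  have hG : ¬ IsUnit G := fun hGu => Sections.not_isUnit X hπ z ((isUnit_pow_iff ha).mp
    (isUnit_of_mul_isUnit_left ((d z).germ_pow X _ (d z).hz ▸ hGu.pow M)))
  have hS : IsUnit S := by
    by_contra hS
    have h3 := Ideal.sub_mem _ ((mem_maximalIdeal _).mpr hS : S ∈ maximalIdeal _) (hs1 z z (d z).hz)
    rw [sub_sub_cancel] at h3
    exact (mem_maximalIdeal _).mp h3 isUnit_one
  have hrn : ¬ IsUnit r := fun hru => by
    obtain ⟨t, ht⟩ := h1
    refine (mem_maximalIdeal _).mp ?_ (hru.map (Stalk.baseHom X.hom (ι X z)))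
    rw [show Stalk.baseHom X.hom (ι X z) r = G * S - bπ X π (ι X z) * t by rw [← ht, sub_sub_cancel]]
    exact Ideal.sub_mem _ (Ideal.mul_mem_right _ _ ((mem_maximalIdeal _).mpr hG))
      (Ideal.mul_mem_right _ _ ((mem_maximalIdeal _).mpr (Sections.not_isUnit X hπ z)))
  rw [← mem_nonunits_iff, ← mem_maximalIdeal, hπ.maximalIdeal_eq, Ideal.mem_span_singleton] at hrn
  have h2 := dvd_add h1 (map_dvd (Stalk.baseHom X.hom (ι X z)) hrn)
  rw [sub_add_cancel] at h2
  exact (IsUnit.dvd_mul_right hS).mp h2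

include hπ hn hconn hbij in
/-- A function on the closed fibre vanishing on the reduced fibre is zero. -/
theorem eq_zero_of_nilp (h : CharZero (ResidueField R) ∨
      ∃ σ : Spec (CommRingCat.of R) ⟶ X.left, σ ≫ X.hom = 𝟙 _)
    (θ : Γ(Y X, ⊤)) (hθ : (jZ X).appTop θ = 0) : θ = 0 := by
  classical
  haveI : CompactSpace (Y X) := QuasiCompact.compactSpace_of_compactSpace (ι X ≫ X.hom)
  obtain ⟨n, hn0⟩ : IsNilpotent θ := by
    refine (Scheme.isNilpotent_iff_basicOpen_eq_bot_of_isCompact (X := Y X) (U := ⊤) isCompact_univ θ).mpr ?_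
    refine Opens.ext (Set.eq_empty_iff_forall_notMem.mpr fun y hy => ?_)
    obtain ⟨y', rfl⟩ := (jZ X).surjective y
    have h1 : y' ∈ jZ X ⁻¹ᵁ (Y X).basicOpen θ := hy
    rw [Scheme.preimage_basicOpen_top, hθ, Scheme.basicOpen_zero] at h1
    exact h1
  have hfin := Sections.finite_dvr X hπ
  have hdec : ∀ z : Y X, IsDiscreteValuationRing (X.left.presheaf.stalk (ι X z)) →
      ∃ m : ℕ, m ≠ 0 ∧ ∃ ϖ : X.left.presheaf.stalk (ι X z), Irreducible ϖ ∧
        Associated (bπ X π (ι X z)) (ϖ ^ m) := by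
    intro z hz
    haveI := (hn (ι X z)).1
    haveI := hz
    obtain ⟨ϖ, hϖ⟩ := IsDiscreteValuationRing.exists_irreducible (X.left.presheaf.stalk (ι X z))
    obtain ⟨m, hm⟩ := IsDiscreteValuationRing.associated_pow_irreducible (Sections.bπ_ne_zero X hπ (ι X z)) hϖ
    exact ⟨m, fun h0 => Sections.not_isUnit X hπ z (hm.symm.isUnit (by rw [h0, pow_zero]; exact isUnit_one)),
      ϖ, hϖ, hm⟩
  choose m hm0 ϖ hϖ hm using hdec
  let mm : Y X → ℕ := fun z => if hz : IsDiscreteValuationRing (X.left.presheaf.stalk (ι X z)) then m z hz else 1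
  have hP : ∏ z ∈ hfin.toFinset, mm z ≠ 0 := Finset.prod_ne_zero_iff.mpr fun z _ => by
    show dite _ _ _ ≠ 0
    split
    · exact hm0 _ _
    · exact one_ne_zero
  set M := (n + 1) * ∏ z ∈ hfin.toFinset, mm z with hM
  have hdvr : ∀ z : Y X, IsDiscreteValuationRing (X.left.presheaf.stalk (ι X z)) →
      ∃ (ϖ : X.left.presheaf.stalk (ι X z)) (m : ℕ), Irreducible ϖ ∧ Associated (bπ X π (ι X z)) (ϖ ^ m) ∧ m ∣ M :=
    fun z hz => ⟨ϖ z hz, m z hz, hϖ z hz, hm z hz, dvd_mul_of_dvd_right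
      (by
        have h1 := Finset.dvd_prod_of_mem mm (hfin.mem_toFinset.mpr hz)
        rwa [show mm z = m z hz from dif_pos hz] at h1) _⟩
  have hnM : n ≤ M := le_trans (Nat.le_succ n) (Nat.le_mul_of_pos_right _ (Nat.pos_of_ne_zero hP))
  by_contra hne
  have hall : ∀ a, a + 1 ≤ M → Div X π θ (a + 1) M := by
    intro a
    induction a with
    | zero =>
      intro _ z G hG
      rw [zero_add, pow_one]
      refine dvd_trans ?_ (pow_dvd_pow G hnM)
      rw [← Ideal.mem_span_singleton, ← Sections.ker_stalk X hπ, RingHom.mem_ker, map_pow, hG,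
        ← map_pow, hn0, map_zero]
    | succ a ih =>
      intro haM
      have haM' : a + 1 < M := haM
      have d : ∀ z, Dat X π θ (a + 1) M z := fun z => (exists_dat X (ih haM'.le) z).some
      obtain ⟨φ, hφ⟩ := exists_phi X hπ hn haM' d
      rcases Main.zero_or_unit X hπ hconn φ with h0 | hu
      · refine div_succ X hπ hn haM' d hdvr fun z z' hz => ?_
        obtain ⟨y, rfl⟩ := (jZ X).surjective z'
        rw [phi_iff X d hφ z y hz, h0, Scheme.basicOpen_zero]
        exact fun hy => hy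
      exfalso
      have hu' : ∀ (z z' : Y X) (hz : ι X z' ∈ (d z).W),
          IsUnit (X.left.presheaf.germ (d z).W (ι X z') hz (d z).w) := fun z z' hz => by
        obtain ⟨y, rfl⟩ := (jZ X).surjective z'
        rw [phi_iff X d hφ z y hz, Scheme.basicOpen_of_isUnit _ hu]
        trivial
      rcases h with hc | ⟨σ, hσ⟩
      · obtain ⟨r₀, hr₀⟩ := Main.exists_const X hπ hconn hbij φ
        exact hne (eq_zero_of_units X hπ hn hbij (Nat.succ_ne_zero a) haM' d hφ hu' r₀ hr₀)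
      · obtain ⟨z, hz⟩ := exists_point_section X hπ σ hσ
        have key : ∀ (x : X.left) (hx : x ∈ (d z).W), x = ι X z →
            IsUnit (X.left.presheaf.germ (d z).W x hx (d z).w) := by
          rintro x hx rfl
          exact hu' z z hx
        exact false_of_section X hπ σ hσ (Nat.succ_ne_zero a) haM' (d z) (hz ▸ (d z).hz) (key _ _ hz.symm)
  have hM0 : M ≠ 0 := mul_ne_zero (Nat.succ_ne_zero n) hP
  refine hne (eq_zero_of_dvd X hπ θ fun z => ?_)
  obtain ⟨G, hG⟩ := (Scheme.Hom.stalkMap_surjective (ι X) z) ((Y X).presheaf.germ ⊤ z trivial θ)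
  refine ⟨G, hG, ?_⟩
  haveI := (hn (ι X z)).1
  haveI := (hn (ι X z)).2
  have hd := hall (M - 1) (by omega) z G hG
  rw [Nat.sub_add_cancel (Nat.pos_of_ne_zero hM0)] at hd
  exact (IsIntegrallyClosed.pow_dvd_pow_iff hM0).mp hd

include hπ hn hconn hbij in
/-- Every function on the closed fibre is constant. -/
theorem exists_eq (h : CharZero (ResidueField R) ∨
      ∃ σ : Spec (CommRingCat.of R) ⟶ X.left, σ ≫ X.hom = 𝟙 _)
    (θ : Γ(Y X, ⊤)) : ∃ r : R, θ = (ι X).appTop (Coh.toGlobal X.hom r) := by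
  have red : ∀ r : R, (jZ X).appTop θ = cZ X r → θ = (ι X).appTop (Coh.toGlobal X.hom r) := fun r hr =>
    sub_eq_zero.mp (eq_zero_of_nilp X hπ hn hconn hbij h _ (by rw [map_sub, hr]; exact sub_self _))
  rcases h with hc | ⟨σ, hσ⟩
  · obtain ⟨r, hr⟩ := Main.exists_const X hπ hconn hbij ((jZ X).appTop θ)
    exact ⟨r, red r hr⟩
  obtain ⟨W, hW, hx, g, hg⟩ := exists_lift X θ (σ (closedPoint R))
  refine ⟨tau X σ hx g, red _ ?_⟩
  set r := tau X σ hx g with hr
  rw [← sub_eq_zero]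
  refine (Main.zero_or_unit X hπ hconn _).resolve_right fun hu => ?_
  obtain ⟨z, hz⟩ := exists_point_section X hπ σ hσ
  obtain ⟨y, rfl⟩ := (jZ X).surjective z
  have hyW : y ∈ (redI X).subschemeι ⁻¹ᵁ W := by
    show (redI X).subschemeι y ∈ W
    rw [← Main.jZ_ι, Scheme.Hom.comp_apply, hz]; exact hx
  have h1 : (redI X).subschemeι.app W (g - cW X W r) =
      (Z X).presheaf.map (homOfLE (le_top : (redI X).subschemeι ⁻¹ᵁ W ≤ ⊤)).op ((jZ X).appTop θ - cZ X r) := by
    rw [map_sub, map_sub, app_cW, cZ_eq]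
    congr 1
    exact (DivisorField.appTop_restrict (jZ X) (ι X) (redI X).subschemeι (Main.jZ_ι X) W θ g hg).symm
  have h2 : y ∈ (Z X).basicOpen ((redI X).subschemeι.app W (g - cW X W r)) := by
    rw [h1, Scheme.basicOpen_res]
    exact ⟨hyW, by rw [Scheme.basicOpen_of_isUnit _ hu]; trivial⟩
  rw [← Scheme.preimage_basicOpen] at h2
  have h3 : σ (closedPoint R) ∈ X.left.basicOpen (g - cW X W r) := by
    rw [← hz, ← Scheme.Hom.comp_apply, Main.jZ_ι]; exact h2
  have h4 := tau_isUnit X σ hx _ ((Scheme.mem_basicOpen X.left _ _ hx).mp h3)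
  rw [map_sub, tau_cW X σ hσ, sub_self] at h4
  exact not_isUnit_zero h4

end

end Groth.Agent.Lib.CohFlat74.Final
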