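import Groth.Agent.Lib.CohFlat74.Main

/-!
# Cohomological flatness in degree zero: the local valuations glue

For a nilpotent function `θ` on the closed fibre the greatest `a` with `π ^ a ∣ G ^ M` for all lifts `G`
gives local units `w = G ^ M / π ^ a` whose values on the reduced fibre glue to one function, which is
constant in residue characteristic zero; extracting `M`-th roots then contradicts `a < M`, as does
restriction along a section.
-/

set_option autoImplicit false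
set_option linter.style.haveILetI false
set_option backward.isDefEq.respectTransparency.types false

universe u

open CategoryTheory Limits AlgebraicGeometry IsLocalRing TopologicalSpace Opposite

namespace Groth.Agent.Lib.CohFlat74.Glue

open Groth.Agent.Lib Groth.Agent.Lib.ModelFibre
open Groth.Agent.Lib.CohFlat74.Sections (Y ι bπ)
open Groth.Agent.Lib.CohFlat74.Main (Z jZ cZ redI)

noncomputable section

variable {R : Type u} [CommRing R] [IsDomain R] [IsDiscreteValuationRing R]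
  (X : Over (Spec (CommRingCat.of R))) {π : R}

/-- Constants on an open set. -/
abbrev cW (W : X.left.Opens) : R →+* Γ(X.left, W) :=
  (X.left.presheaf.map (homOfLE (le_top : W ≤ ⊤)).op).hom.comp (Coh.toGlobal X.hom)

theorem germ_cW (W : X.left.Opens) (x : X.left) (hx : x ∈ W) (r : R) :
    X.left.presheaf.germ W x hx (cW X W r) = Stalk.baseHom X.hom x r :=
  TopCat.Presheaf.germ_res_apply X.left.presheaf (homOfLE le_top) x hx (Coh.toGlobal X.hom r)

theorem germ_res (W V : X.left.Opens) (h : V ≤ W) (x : X.left) (hx : x ∈ V) (b : Γ(X.left, W)) :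
    X.left.presheaf.germ V x hx (X.left.presheaf.map (homOfLE h).op b) =
      X.left.presheaf.germ W x (h hx) b :=
  TopCat.Presheaf.germ_res_apply X.left.presheaf (homOfLE h) x hx b

/-- The prime of a point of an affine open contains exactly the sections vanishing at the point. -/
theorem mem_prime_iff {W : X.left.Opens} (hW : IsAffineOpen W) (P : Ideal Γ(X.left, W)) (hP : P.IsPrime)
    (hx : hW.fromSpec ⟨P, hP⟩ ∈ W) (b : Γ(X.left, W)) :
    ¬ IsUnit (X.left.presheaf.germ W (hW.fromSpec ⟨P, hP⟩) hx b) ↔ b ∈ P := by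
  letI := TopCat.Presheaf.algebra_section_stalk X.left.presheaf (⟨_, hx⟩ : W)
  haveI : IsLocalization.AtPrime (X.left.presheaf.stalk (hW.fromSpec ⟨P, hP⟩)) P :=
    hW.isLocalization_stalk' ⟨P, hP⟩ hx
  exact (not_congr (IsLocalization.AtPrime.isUnit_to_map_iff (X.left.presheaf.stalk _) P b)).trans not_not

variable [Flat X.hom] [IsProper X.hom] [IsIntegral X.left]
  (hπ : Irreducible π) (hn : Pi1.IsNormalScheme X.left)
  (hconn : _root_.IsConnected (Models.specialFibreSet R X))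
  (hbij : Function.Bijective (Coh.toGlobal X.hom))

include hπ in
theorem mem_fibre_or (n : ℕ) (y : (LiftH0.powI X n).subscheme) :
    ∃ z, ι X z = (LiftH0.powI X n).subschemeι y := by
  refine Sections.exists_point X hπ _ fun h => ?_
  refine RingHom.ker_ne_top ((LiftH0.powI X n).subschemeι.stalkMap y).hom ?_
  rw [Groth.Agent.H4.CartierUFD.ker_stalkMap_subschemeι, LiftH0.stalk_powI X hπ]
  exact Ideal.span_singleton_eq_top.mpr (h.pow n)

include hπ in
/-- A local section divisible by `π ^ n` along the fibre vanishes on the `n`-th thickening. -/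
theorem app_eq_zero (n : ℕ) {V : X.left.Opens} (d : Γ(X.left, V))
    (h : ∀ (z : Y X) (hz : ι X z ∈ V), bπ X π (ι X z) ^ n ∣ X.left.presheaf.germ V (ι X z) hz d) :
    (LiftH0.powI X n).subschemeι.app V d = 0 := by
  refine TopCat.Presheaf.section_ext (LiftH0.powI X n).subscheme.sheaf _ _ _ fun y hy => ?_
  show (LiftH0.powI X n).subscheme.presheaf.germ _ y hy _ = (LiftH0.powI X n).subscheme.presheaf.germ _ y hy 0
  rw [map_zero]
  rw [← Scheme.Hom.germ_stalkMap_apply, ← RingHom.mem_ker,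
    Groth.Agent.H4.CartierUFD.ker_stalkMap_subschemeι, LiftH0.stalk_powI X hπ, Ideal.mem_span_singleton]
  obtain ⟨z, hz⟩ := mem_fibre_or X hπ n y
  have key : ∀ (x : X.left) (hx : x ∈ V), x = ι X z → bπ X π x ^ n ∣ X.left.presheaf.germ V x hx d := by
    rintro x hx rfl
    exact h z hx
  exact key _ _ hz.symm

/-- A local lift of a function on the closed fibre. -/
def IsLift (θ : Γ(Y X, ⊤)) (W : X.left.Opens) (g : Γ(X.left, W)) : Prop :=
  (ι X).app W g = (Y X).presheaf.map (homOfLE (le_top : ι X ⁻¹ᵁ W ≤ ⊤)).op θ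

theorem lift_germ {θ : Γ(Y X, ⊤)} {W : X.left.Opens} {g : Γ(X.left, W)} (h : IsLift X θ W g)
    (z : Y X) (hz : ι X z ∈ W) :
    ((ι X).stalkMap z).hom (X.left.presheaf.germ W (ι X z) hz g) = (Y X).presheaf.germ ⊤ z trivial θ := by
  refine (Scheme.Hom.germ_stalkMap_apply (ι X) W z hz g).trans ?_
  rw [h]
  exact TopCat.Presheaf.germ_res_apply (Y X).presheaf (homOfLE le_top) z hz θ

theorem exists_lift (θ : Γ(Y X, ⊤)) (x : X.left) :
    ∃ W : X.left.Opens, IsAffineOpen W ∧ x ∈ W ∧ ∃ g, IsLift X θ W g := by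
  obtain ⟨W, hW, hx, -⟩ := exists_isAffineOpen_mem_and_subset (show x ∈ (⊤ : X.left.Opens) from trivial)
  exact ⟨W, hW, hx, (LiftH0.powI X 1).subschemeι_app_surjective ⟨W, hW⟩ _⟩

/-- All lifts have `M`-th power divisible by `π ^ a`. -/
def Div (π : R) (θ : Γ(Y X, ⊤)) (a M : ℕ) : Prop :=
  ∀ (z : Y X) (G : X.left.presheaf.stalk (ι X z)),
    ((ι X).stalkMap z).hom G = (Y X).presheaf.germ ⊤ z trivial θ → bπ X π (ι X z) ^ a ∣ G ^ M

/-- The local data of a function with `M`-th power divisible by `π ^ a`. -/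
structure Dat (π : R) (θ : Γ(Y X, ⊤)) (a M : ℕ) (z : Y X) where
  W : X.left.Opens
  hW : IsAffineOpen W
  hz : ι X z ∈ W
  g : Γ(X.left, W)
  w : Γ(X.left, W)
  hg : IsLift X θ W g
  hw : g ^ M = cW X W π ^ a * w

theorem exists_dat {θ : Γ(Y X, ⊤)} {a M : ℕ} (h : Div X π θ a M) (z : Y X) :
    Nonempty (Dat X π θ a M z) := by
  obtain ⟨W₀, hW₀, hz₀, g₀, hg₀⟩ := exists_lift X θ (ι X z)
  obtain ⟨w₀, hw₀⟩ := h z _ (lift_germ X hg₀ z hz₀)
  obtain ⟨W₁, hz₁, w₁, rfl⟩ := TopCat.Presheaf.exists_germ_eq X.left.presheaf w₀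
  have hV : ι X z ∈ W₀ ⊓ W₁ := ⟨hz₀, hz₁⟩
  have he : X.left.presheaf.germ (W₀ ⊓ W₁) (ι X z) hV
      (X.left.presheaf.map (homOfLE inf_le_left).op g₀ ^ M) =
      X.left.presheaf.germ (W₀ ⊓ W₁) (ι X z) hV
        (cW X _ π ^ a * X.left.presheaf.map (homOfLE inf_le_right).op w₁) := by
    rw [map_pow, map_mul, map_pow, germ_res, germ_res, germ_cW]
    exact hw₀
  obtain ⟨V, hzV, iV, iV', hV'⟩ := TopCat.Presheaf.germ_eq X.left.presheaf (ι X z) hV hV _ _ he
  obtain ⟨W, hW, hzW, hWV⟩ := exists_isAffineOpen_mem_and_subset hzV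
  have h0 : W ≤ W₀ := fun x hx => (iV.le (hWV hx)).1
  have h1 : W ≤ W₁ := fun x hx => (iV.le (hWV hx)).2
  refine ⟨⟨W, hW, hzW, X.left.presheaf.map (homOfLE h0).op g₀, X.left.presheaf.map (homOfLE h1).op w₁, ?_, ?_⟩⟩
  · unfold IsLift at hg₀ ⊢
    refine (congr($((ι X).naturality (homOfLE h0).op) g₀)).trans ?_
    show (Y X).presheaf.map _ ((ι X).app W₀ g₀) = _
    rw [hg₀, ← CommRingCat.comp_apply, ← Functor.map_comp]
    rfl
  · refine TopCat.Presheaf.section_ext X.left.sheaf W _ _ fun x hx => ?_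
    show X.left.presheaf.germ W x hx _ = X.left.presheaf.germ W x hx _
    have h2 := congrArg (X.left.presheaf.germ V x (hWV hx)) hV'
    rw [TopCat.Presheaf.germ_res_apply, TopCat.Presheaf.germ_res_apply, map_pow, map_mul, map_pow, germ_res,
      germ_res, germ_cW] at h2
    rw [map_pow, map_mul, map_pow, germ_res, germ_res, germ_cW]
    exact h2

theorem Dat.germ_pow {θ : Γ(Y X, ⊤)} {a M : ℕ} {z : Y X} (d : Dat X π θ a M z) (x : X.left) (hx : x ∈ d.W) :
    X.left.presheaf.germ d.W x hx d.g ^ M = bπ X π x ^ a * X.left.presheaf.germ d.W x hx d.w := by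
  rw [← map_pow, d.hw, map_mul, map_pow, germ_cW]

include hπ hn in
/-- The values of the local units agree on the fibre. -/
theorem compat {θ : Γ(Y X, ⊤)} {a M : ℕ} (haM : a < M) {z₁ z₂ : Y X} (d₁ : Dat X π θ a M z₁)
    (d₂ : Dat X π θ a M z₂) (z : Y X) (h₁ : ι X z ∈ d₁.W) (h₂ : ι X z ∈ d₂.W) :
    residue (X.left.presheaf.stalk (ι X z)) (X.left.presheaf.germ d₁.W (ι X z) h₁ d₁.w) =
      residue _ (X.left.presheaf.germ d₂.W (ι X z) h₂ d₂.w) := by
  haveI := (hn (ι X z)).1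
  haveI := (hn (ι X z)).2
  obtain ⟨r, hr⟩ := Sections.exists_eq_add X hπ z
    ((lift_germ X d₁.hg z h₁).trans (lift_germ X d₂.hg z h₂).symm)
  exact Main.residue_eq (Sections.bπ_ne_zero X hπ _) (Sections.not_isUnit X hπ z) haM hr
    (d₁.germ_pow X _ h₁) (d₂.germ_pow X _ h₂)

/-- A section with no unit value on the fibre restricts to zero on the reduced fibre. -/
theorem app_red_eq_zero {V : X.left.Opens} (d : Γ(X.left, V))
    (h : ∀ (z : Y X) (hz : ι X z ∈ V), ¬ IsUnit (X.left.presheaf.germ V (ι X z) hz d)) :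
    (redI X).subschemeι.app V d = 0 := by
  refine eq_zero_of_basicOpen_eq_bot _ (Opens.ext (Set.eq_empty_iff_forall_notMem.mpr fun y hy => ?_))
  have h1 : (redI X).subschemeι y ∈ X.left.basicOpen d :=
    (Scheme.preimage_basicOpen (redI X).subschemeι d).ge hy
  rw [← Main.jZ_ι, Scheme.Hom.comp_apply] at h1
  have h2 : ι X (jZ X y) ∈ V := X.left.basicOpen_le d h1
  exact h (jZ X y) h2 ((Scheme.mem_basicOpen X.left d _ h2).mp h1)

include hπ hn in
/-- The glued values of the local units. -/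
theorem exists_phi {θ : Γ(Y X, ⊤)} {a M : ℕ} (haM : a < M) (d : ∀ z : Y X, Dat X π θ a M z) :
    ∃ φ : Γ(Z X, ⊤), ∀ z, (Z X).presheaf.map (homOfLE (le_top : (redI X).subschemeι ⁻¹ᵁ (d z).W ≤ ⊤)).op φ =
      (redI X).subschemeι.app (d z).W (d z).w := by
  let U : Y X → (Z X).Opens := fun z => (redI X).subschemeι ⁻¹ᵁ (d z).W
  have hcov : (⊤ : (Z X).Opens) ≤ iSup U := fun y _ => by
    refine Opens.mem_iSup.mpr ⟨jZ X y, ?_⟩
    show (redI X).subschemeι y ∈ (d (jZ X y)).W
    rw [← Main.jZ_ι, Scheme.Hom.comp_apply]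
    exact (d (jZ X y)).hz
  obtain ⟨φ, hφ, -⟩ := (Z X).sheaf.existsUnique_gluing' U ⊤ (fun z => homOfLE le_top) hcov
    (fun z => (redI X).subschemeι.app (d z).W (d z).w) (fun z₁ z₂ => by
      let V := (d z₁).W ⊓ (d z₂).W
      have h := app_red_eq_zero X (X.left.presheaf.map (homOfLE (inf_le_left : V ≤ _)).op (d z₁).w -
        X.left.presheaf.map (homOfLE (inf_le_right : V ≤ _)).op (d z₂).w) fun z hz => by
          rw [map_sub, germ_res, germ_res, ← mem_nonunits_iff, ← mem_maximalIdeal,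
            ← IsLocalRing.residue_eq_zero_iff, map_sub, compat X hπ hn haM (d z₁) (d z₂) z hz.1 hz.2, sub_self]
      rw [map_sub, sub_eq_zero] at h
      exact ((congr($((redI X).subschemeι.naturality (homOfLE (inf_le_left : V ≤ _)).op) (d z₁).w)).symm.trans
        h).trans (congr($((redI X).subschemeι.naturality (homOfLE (inf_le_right : V ≤ _)).op) (d z₂).w)))
  exact ⟨φ, hφ⟩

/-- The value of the glued function is the value of the local unit. -/
theorem phi_iff {θ : Γ(Y X, ⊤)} {a M : ℕ} (d : ∀ z : Y X, Dat X π θ a M z) {φ : Γ(Z X, ⊤)}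
    (hφ : ∀ z, (Z X).presheaf.map (homOfLE (le_top : (redI X).subschemeι ⁻¹ᵁ (d z).W ≤ ⊤)).op φ =
      (redI X).subschemeι.app (d z).W (d z).w) (z : Y X) (y : Z X) (hy : ι X (jZ X y) ∈ (d z).W) :
    IsUnit (X.left.presheaf.germ (d z).W (ι X (jZ X y)) hy (d z).w) ↔ y ∈ (Z X).basicOpen φ := by
  rw [← Scheme.mem_basicOpen X.left (d z).w _ hy, ← Scheme.Hom.comp_apply, Main.jZ_ι]
  show y ∈ (redI X).subschemeι ⁻¹ᵁ X.left.basicOpen (d z).w ↔ _
  rw [Scheme.preimage_basicOpen, ← hφ z, Scheme.basicOpen_res]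
  refine ⟨fun h => h.2, fun h => ⟨?_, h⟩⟩
  show (redI X).subschemeι y ∈ (d z).W
  rw [← Main.jZ_ι, Scheme.Hom.comp_apply]
  exact hy

include hπ hn in
/-- If no local unit is a unit the divisibility improves. -/
theorem div_succ {θ : Γ(Y X, ⊤)} {a M : ℕ} (haM : a < M) (d : ∀ z : Y X, Dat X π θ a M z)
    (hdvr : ∀ z : Y X, IsDiscreteValuationRing (X.left.presheaf.stalk (ι X z)) →
      ∃ (ϖ : X.left.presheaf.stalk (ι X z)) (m : ℕ), Irreducible ϖ ∧ Associated (bπ X π (ι X z)) (ϖ ^ m) ∧ m ∣ M)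
    (h : ∀ (z z' : Y X) (hz : ι X z' ∈ (d z).W), ¬ IsUnit (X.left.presheaf.germ (d z).W (ι X z') hz (d z).w)) :
    Div X π θ (a + 1) M := by
  intro z G hG
  haveI := (hn (ι X z)).1
  haveI := (hn (ι X z)).2
  have h1 := Sections.germ_dvd X hπ hn (d z).hW ((d z).g ^ M) (a + 1) (fun z' hz' hd => by
    haveI := (hn (ι X z')).1
    haveI := hd
    obtain ⟨ϖ, m, hϖ, hm, hmM⟩ := hdvr z' hd
    rw [map_pow, (d z).germ_pow X, pow_succ]
    exact mul_dvd_mul_left _ (Alg.dvd_of_dvr hϖ hm hmM ((d z).germ_pow X _ hz') (h z z' hz')))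
    (ι X z) (d z).hz
  rw [map_pow] at h1
  obtain ⟨r, rfl⟩ := Sections.exists_eq_add X hπ z ((lift_germ X (d z).hg z (d z).hz).trans hG.symm)
  exact Alg.dvd_pow_add haM (by omega) h1 r

include hπ in
theorem eq_zero_of_dvd (θ : Γ(Y X, ⊤))
    (h : ∀ z : Y X, ∃ G, ((ι X).stalkMap z).hom G = (Y X).presheaf.germ ⊤ z trivial θ ∧ bπ X π (ι X z) ∣ G) :
    θ = 0 := by
  refine TopCat.Presheaf.section_ext (Y X).sheaf ⊤ _ _ fun z _ => ?_
  show (Y X).presheaf.germ ⊤ z trivial θ = (Y X).presheaf.germ ⊤ z trivial 0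
  rw [map_zero]
  obtain ⟨G, hG, hd⟩ := h z
  rw [← hG, ← RingHom.mem_ker, Sections.ker_stalk X hπ, Ideal.mem_span_singleton]
  exact hd

section Section

variable (σ : Spec (CommRingCat.of R) ⟶ X.left) (hσ : σ ≫ X.hom = 𝟙 _)

include hπ hσ in
theorem exists_point_section : ∃ z : Y X, ι X z = σ (closedPoint R) := by
  refine Sections.exists_point X hπ _ ((Sections.eq_closedPoint_iff X hπ _).mpr ?_)
  rw [← Scheme.Hom.comp_apply, hσ]
  rfl

omit [IsDiscreteValuationRing R] [Flat X.hom] [IsProper X.hom] [IsIntegral X.left] in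
theorem preimage_eq_top [IsLocalRing R] {W : X.left.Opens} (h : σ (closedPoint R) ∈ W) : σ ⁻¹ᵁ W = ⊤ :=
  top_le_iff.mp fun p _ => (IsLocalRing.specializes_closedPoint (R := R) p).mem_open (σ ⁻¹ᵁ W).2 h

/-- Restriction along a section. -/
def tau {W : X.left.Opens} (h : σ (closedPoint R) ∈ W) : Γ(X.left, W) →+* R :=
  (σ.appLE W ⊤ (preimage_eq_top X σ h).ge ≫ (Scheme.ΓSpecIso (CommRingCat.of R)).hom).hom

include hσ in
theorem tau_cW {W : X.left.Opens} (h : σ (closedPoint R) ∈ W) (r : R) : tau X σ h (cW X W r) = r := by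
  have e : (Scheme.ΓSpecIso (CommRingCat.of R)).inv ≫ X.hom.appTop ≫
      X.left.presheaf.map (homOfLE (le_top : W ≤ ⊤)).op ≫ σ.appLE W ⊤ (preimage_eq_top X σ h).ge ≫
      (Scheme.ΓSpecIso (CommRingCat.of R)).hom = 𝟙 _ := by
    rw [Scheme.Hom.map_appLE_assoc, ← Category.assoc X.hom.appTop,
      show σ.appLE ⊤ ⊤ (by simp) = σ.appTop from Scheme.Hom.appLE_eq_app σ, ← Scheme.Hom.comp_appTop, hσ]
    simp
  exact congr($e r)

theorem tau_isUnit {W : X.left.Opens} (h : σ (closedPoint R) ∈ W) (b : Γ(X.left, W))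
    (hb : IsUnit (X.left.presheaf.germ W (σ (closedPoint R)) h b)) : IsUnit (tau X σ h b) := by
  have hm : σ (closedPoint R) ∈ X.left.basicOpen b := (Scheme.mem_basicOpen X.left b _ h).mpr hb
  rw [tau, CommRingCat.hom_comp, RingHom.comp_apply]
  refine IsUnit.map _ ?_
  rw [← Scheme.Hom.map_appLE σ (preimage_eq_top X σ hm).ge (homOfLE (X.left.basicOpen_le b)).op,
    CommRingCat.hom_comp, RingHom.comp_apply]
  exact IsUnit.map _ (X.left.toLocallyRingedSpace.toRingedSpace.isUnit_res_basicOpen b)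

include hπ hσ in
theorem false_of_section {θ : Γ(Y X, ⊤)} {a M : ℕ} (ha : a ≠ 0) (haM : a < M) {z : Y X}
    (d : Dat X π θ a M z) (hz : σ (closedPoint R) ∈ d.W)
    (hu : IsUnit (X.left.presheaf.germ d.W (σ (closedPoint R)) hz d.w)) : False := by
  have h := congrArg (tau X σ hz) d.hw
  rw [map_pow, map_mul, map_pow, tau_cW X σ hσ] at h
  have hu' := tau_isUnit X σ hz _ hu
  have hg0 : tau X σ hz d.g ≠ 0 := fun h0 => by
    rw [h0, zero_pow (by omega : M ≠ 0)] at h
    exact (mul_ne_zero (pow_ne_zero a hπ.ne_zero) hu'.ne_zero) h.symm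
  obtain ⟨i, hi⟩ := IsDiscreteValuationRing.associated_pow_irreducible hg0 hπ
  have h1 : Associated (π ^ (i * M)) (π ^ a) := by
    rw [pow_mul]
    exact (hi.symm.pow_pow).trans (h ▸ (associated_mul_unit_left _ _ hu'))
  have h2 : i * M = a := le_antisymm ((pow_dvd_pow_iff hπ.ne_zero hπ.not_isUnit).mp h1.dvd)
    ((pow_dvd_pow_iff hπ.ne_zero hπ.not_isUnit).mp h1.symm.dvd)
  rcases i with _ | i
  · rw [zero_mul] at h2; exact ha h2.symm
  · rw [add_mul, one_mul] at h2; omega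

end Section

end

end Groth.Agent.Lib.CohFlat74.Glue
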