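import Groth.Agent.Lib.CohFlat74.Sections

/-!
# Cohomological flatness in degree zero of normal proper flat schemes over a discrete valuation ring

If the closed fibre of `X` is connected, and the residue characteristic is zero or `X` has a section,
every function on the closed fibre comes from the base.
-/

set_option autoImplicit false
set_option linter.style.haveILetI false
set_option backward.isDefEq.respectTransparency.types false

universe u

open CategoryTheory Limits AlgebraicGeometry IsLocalRing TopologicalSpace Opposite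

namespace Groth.Agent.Lib.CohFlat74.Main

open Groth.Agent.Lib Groth.Agent.Lib.ModelFibre
open Groth.Agent.Lib.CohFlat74.Sections (Y ι bπ)

noncomputable section

/-- Roots of units congruent to a constant, modulo high powers. -/
theorem exists_root_lift {B : Type u} [CommRing B] (p w c : B) (M L : ℕ) (hL : L ≠ 0)
    (hall : ∀ P : Ideal B, P.IsPrime → p ∈ P → w ∉ P ∧ w - c ∈ P ∧ (M : B) ∉ P) :
    ∃ s : B, p ^ L ∣ w * s ^ M - c ∧ ∀ P : Ideal B, P.IsPrime → p ∈ P → s - 1 ∈ P := by
  let A := B ⧸ Ideal.span {p ^ L}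
  let q := Ideal.Quotient.mk (Ideal.span {p ^ L})
  have hprime : ∀ P : Ideal A, P.IsPrime → p ∈ P.comap q := fun P hP => by
    refine Ideal.IsPrime.mem_of_pow_mem (Ideal.comap_isPrime q P) L ?_
    show q (p ^ L) ∈ P
    rw [Ideal.Quotient.eq_zero_iff_mem.mpr (Ideal.mem_span_singleton_self _)]
    exact zero_mem _
  have hu : ∀ a : B, (∀ P : Ideal B, P.IsPrime → p ∈ P → a ∉ P) → IsUnit (q a) := fun a ha => by
    by_contra hn
    obtain ⟨P, hP, haP⟩ := exists_max_ideal_of_mem_nonunits hn
    exact ha _ (Ideal.comap_isPrime q P) (hprime P hP.isPrime) haP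
  obtain ⟨wu, hwu⟩ := hu w fun P hP hp => (hall P hP hp).1
  have hMu : IsUnit (M : A) := by
    rw [← map_natCast q]; exact hu _ fun P hP hp => (hall P hP hp).2.2
  let F : Polynomial A := Polynomial.X ^ M - Polynomial.C (q c * ↑wu⁻¹)
  have h1 : IsNilpotent (Polynomial.aeval (1 : A) F) := by
    rw [show Polynomial.aeval (1 : A) F = 1 - q c * ↑wu⁻¹ by simp [F],
      show (1 : A) - q c * ↑wu⁻¹ = (↑wu - q c) * ↑wu⁻¹ by rw [sub_mul, Units.mul_inv]]
    refine (Commute.all _ _).isNilpotent_mul_right ?_
    rw [← mem_nilradical, nilradical_eq_sInf, Submodule.mem_sInf]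
    intro P hP
    haveI : Ideal.IsPrime P := hP
    rw [hwu, ← map_sub]
    exact (hall _ (Ideal.comap_isPrime q P) (hprime P hP)).2.1
  have h2 : IsUnit (Polynomial.aeval (1 : A) (Polynomial.derivative F)) := by
    simpa [F, Polynomial.derivative_X_pow] using hMu
  obtain ⟨v, ⟨hv, hv'⟩, -⟩ := Polynomial.existsUnique_nilpotent_sub_and_aeval_eq_zero h1 h2
  obtain ⟨s, rfl⟩ := Ideal.Quotient.mk_surjective v
  refine ⟨s, ?_, fun P hP hp => ?_⟩
  · rw [← Ideal.mem_span_singleton, ← Ideal.Quotient.eq_zero_iff_mem, map_sub, map_mul, map_pow, ← hwu]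
    simp only [F, map_sub, map_pow, Polynomial.aeval_X, Polynomial.aeval_C, Algebra.algebraMap_self,
      RingHom.id_apply, sub_eq_zero] at hv'
    rw [hv', mul_comm (q c), ← mul_assoc, Units.mul_inv, one_mul, sub_self]
  · obtain ⟨n, hn⟩ := hv
    rw [← map_one q, ← map_sub, ← map_pow, Ideal.Quotient.eq_zero_iff_mem, Ideal.mem_span_singleton] at hn
    obtain ⟨d, hd⟩ := hn
    have h3 : (1 - s) ^ n ∈ P := by
      rw [hd]
      exact P.mul_mem_right _ (Ideal.pow_mem_of_mem P hp L (Nat.pos_of_ne_zero hL))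
    rw [← neg_mem_iff, neg_sub]
    exact hP.mem_of_pow_mem n h3

/-- Two lifts with the same divisibility give ratios with the same residue. -/
theorem residue_eq {O : Type u} [CommRing O] [IsDomain O] [IsIntegrallyClosed O] [IsLocalRing O]
    {π G G' w w' r : O} {a M : ℕ} (hπ : π ≠ 0) (hπu : ¬ IsUnit π) (haM : a < M) (hG' : G' = G + π * r)
    (hw : G ^ M = π ^ a * w) (hw' : G' ^ M = π ^ a * w') : residue O w = residue O w' := by
  have key : ∀ {G G' w w' r : O}, G' = G + π * r → G ^ M = π ^ a * w → G' ^ M = π ^ a * w' → IsUnit w →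
      residue O w = residue O w' := by
    intro G G' w w' r hG' hw hw' hu
    obtain ⟨e, he, hre⟩ := Alg.exists_small hπ hπu haM hu hw r
    have h : w' = w * (1 + e) ^ M := mul_left_cancel₀ (pow_ne_zero a hπ) (by
      rw [← hw', hG', hre, ← mul_assoc, ← hw, ← mul_pow]; ring)
    rw [h, map_mul, map_pow, map_add, map_one, (residue_eq_zero_iff e).mpr he, add_zero, one_pow, mul_one]
  by_cases hu : IsUnit w
  · exact key hG' hw hw' hu
  by_cases hu' : IsUnit w'
  · exact (key (G := G') (G' := G) (r := -r) (by rw [hG']; ring) hw' hw hu').symm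
  rw [(residue_eq_zero_iff w).mpr hu, (residue_eq_zero_iff w').mpr hu']

variable {R : Type u} [CommRing R] [IsDomain R] [IsDiscreteValuationRing R]
  (X : Over (Spec (CommRingCat.of R))) [Flat X.hom] [IsProper X.hom] [IsIntegral X.left] {π : R}

/-- The ideal of the reduced closed fibre. -/
abbrev redI : X.left.IdealSheafData :=
  Scheme.IdealSheafData.vanishingIdeal (LiftH0.powI X 1).support

/-- The reduced closed fibre. -/
abbrev Z : Scheme.{u} := (redI X).subscheme

/-- The inclusion of the reduced closed fibre into the closed fibre. -/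
abbrev jZ : Z X ⟶ Y X :=
  IsClosedImmersion.lift (LiftH0.powI X 1).subschemeι (redI X).subschemeι (by
    rw [Scheme.IdealSheafData.ker_subschemeι, Scheme.IdealSheafData.ker_subschemeι, redI,
      Scheme.IdealSheafData.vanishingIdeal_support]
    exact Scheme.IdealSheafData.le_radical _)

theorem jZ_ι : jZ X ≫ ι X = (redI X).subschemeι := IsClosedImmersion.lift_fac _ _ _

instance : IsClosedImmersion (jZ X) :=
  haveI : IsClosedImmersion (jZ X ≫ ι X) := by rw [jZ_ι]; infer_instance
  IsClosedImmersion.of_comp (jZ X) (ι X)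

instance : Surjective (jZ X) := ⟨fun y => by
  have hy : ι X y ∈ ((redI X).support : Set X.left) := by
    rw [redI, Scheme.IdealSheafData.vanishingIdeal_support, Scheme.IdealSheafData.support_radical,
      ← (LiftH0.powI X 1).range_subschemeι]
    exact ⟨y, rfl⟩
  rw [← (redI X).range_subschemeι] at hy
  obtain ⟨z, hz⟩ := hy
  exact ⟨z, (ι X).isClosedEmbedding.injective (by rw [← hz, ← jZ_ι, Scheme.Hom.comp_apply])⟩⟩

/-- Constants on the reduced closed fibre. -/
abbrev cZ : R →+* Γ(Z X, ⊤) :=
  (jZ X).appTop.hom.comp (Coh.toGlobal (ι X ≫ X.hom))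

variable (hπ : Irreducible π) (hconn : _root_.IsConnected (Models.specialFibreSet R X))

include hπ hconn in
theorem preconnected : PreconnectedSpace (Z X) := by
  have hr : Set.range (redI X).subschemeι = Models.specialFibreSet R X := by
    ext x
    show _ ↔ X.hom x = closedPoint R
    rw [← Sections.eq_closedPoint_iff X hπ]
    constructor
    · rintro ⟨z, rfl⟩
      rw [← jZ_ι, Scheme.Hom.comp_apply]
      exact Sections.not_isUnit X hπ _
    · intro hx
      obtain ⟨y, rfl⟩ := Sections.exists_point X hπ x hx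
      obtain ⟨z, rfl⟩ := (jZ X).surjective y
      exact ⟨z, by rw [← jZ_ι, Scheme.Hom.comp_apply]⟩
  haveI := isConnected_iff_connectedSpace.mp (hr ▸ hconn)
  let e := (redI X).subschemeι.isClosedEmbedding.toIsEmbedding.toHomeomorph
  haveI : ConnectedSpace (Z X) := e.symm.surjective.connectedSpace e.symm.continuous
  infer_instance

include hπ in
theorem cZ_eq_zero : cZ X π = 0 := by
  refine eq_zero_of_basicOpen_eq_bot _ (Opens.ext (Set.eq_empty_iff_forall_notMem.mpr fun z hz => ?_))
  have h1 : jZ X z ∈ (Y X).basicOpen (Coh.toGlobal (ι X ≫ X.hom) π) := by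
    exact (Scheme.preimage_basicOpen (jZ X) (Coh.toGlobal (ι X ≫ X.hom) π)).ge hz
  have h2 : ι X (jZ X z) ∈ X.left.basicOpen (Coh.toGlobal X.hom π) := by
    exact (Scheme.preimage_basicOpen (ι X) (Coh.toGlobal X.hom π)).ge h1
  exact Sections.not_isUnit X hπ _
    ((Scheme.mem_basicOpen X.left (Coh.toGlobal X.hom π) (ι X (jZ X z)) trivial).mp h2)

/-- The residue field acting on the functions of the reduced closed fibre. -/
def cK : ResidueField R →+* Γ(Z X, ⊤) :=
  _root_.Ideal.Quotient.lift _ (cZ X) fun r hr => by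
    obtain ⟨π, hπ⟩ := IsDiscreteValuationRing.exists_irreducible R
    rw [hπ.maximalIdeal_eq, _root_.Ideal.mem_span_singleton] at hr
    obtain ⟨t, rfl⟩ := hr
    rw [map_mul, cZ_eq_zero X hπ, zero_mul]

theorem cK_integral (x : Γ(Z X, ⊤)) : (cK X).IsIntegralElem x := by
  have h : (cZ X).IsIntegral := by
    have h1 := RingHom.IsIntegral.trans (Scheme.ΓSpecIso (CommRingCat.of R)).inv.hom
      (jZ X ≫ ι X ≫ X.hom).appTop.hom
      (RingHom.isIntegral_of_surjective _
        (Scheme.ΓSpecIso (CommRingCat.of R)).commRingCatIsoToRingEquiv.symm.surjective)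
      (isIntegral_appTop_of_universallyClosed _)
    exact h1
  obtain ⟨p, hp, hx⟩ := h x
  refine ⟨p.map (residue R), hp.map _, ?_⟩
  rw [Polynomial.eval₂_map]
  exact hx

include hπ hconn in
theorem zero_or_unit (x : Γ(Z X, ⊤)) : x = 0 ∨ IsUnit x := by
  haveI := preconnected X hπ hconn
  exact Sections.zero_or_unit (cK X) x (cK_integral X x)

/-- The restriction to the reduced closed fibre of a local function. -/
abbrev resZ {W : X.left.Opens} : Γ(X.left, W) →+* Γ(Z X, (redI X).subschemeι ⁻¹ᵁ W) :=
  ((redI X).subschemeι.app W).hom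

variable (hbij : Function.Bijective (Coh.toGlobal X.hom))

include hπ hconn hbij in
/-- In residue characteristic zero, the functions on the reduced closed fibre are constants. -/
theorem exists_const [CharZero (ResidueField R)] (x : Γ(Z X, ⊤)) : ∃ r : R, x = cZ X r := by
  let k := ResidueField R
  letI : Algebra k Γ(Z X, ⊤) := (cK X).toAlgebra
  haveI := preconnected X hπ hconn
  have hint : IsIntegral k x := cK_integral X x
  letI : Field Γ(Z X, ⊤) := by
    haveI : Nontrivial Γ(Z X, ⊤) := by
      obtain ⟨x₀, hx₀⟩ := hconn.nonempty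
      obtain ⟨y, -⟩ := Sections.exists_point X hπ x₀ ((Sections.eq_closedPoint_iff X hπ x₀).mpr hx₀)
      obtain ⟨z, -⟩ := (jZ X).surjective y
      exact ((Z X).presheaf.germ ⊤ z trivial).hom.domain_nontrivial
    exact IsField.toField ⟨exists_pair_ne _, mul_comm, fun {a} ha =>
      isUnit_iff_exists_inv.mp ((zero_or_unit X hπ hconn a).resolve_left ha)⟩
  have hsep : (minpoly k x).Separable := PerfectField.separable_of_irreducible (minpoly.irreducible hint)
  obtain ⟨F, hF⟩ := Polynomial.map_surjective (residue R) residue_surjective (minpoly k x)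
  have hev : ∀ G : Polynomial R, G.eval₂ (cZ X) x = Polynomial.aeval x (G.map (residue R)) := fun G => by
    rw [Polynomial.aeval_def, Polynomial.eval₂_map]
    rfl
  have hF0 : F.eval₂ (cZ X) x = 0 := by rw [hev, hF, minpoly.aeval]
  have hF1 : IsUnit ((Polynomial.derivative F).eval₂ (cZ X) x) := by
    rw [hev, ← Polynomial.derivative_map, hF]
    exact Ne.isUnit (hsep.aeval_derivative_ne_zero (minpoly.aeval k x))
  obtain ⟨x₁, hx₁, hx₁x⟩ := Thick.exists_root (jZ X) (Coh.toGlobal (ι X ≫ X.hom)) F x hF0 hF1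
  have hx₁' : IsUnit ((Polynomial.derivative F).eval₂ (Coh.toGlobal (ι X ≫ X.hom)) x₁) := by
    refine Thick.isUnit_of_isUnit_app (jZ X) (W := ⊤) _ ?_
    have h := Polynomial.hom_eval₂ (Polynomial.derivative F) (Coh.toGlobal (ι X ≫ X.hom)) (jZ X).appTop.hom x₁
    have h2 := h.trans (congrArg (fun y => (Polynomial.derivative F).eval₂ (cZ X) y) hx₁x)
    exact (congrArg IsUnit h2).mpr hF1
  obtain ⟨b, hb⟩ := H0Surj.exists_global_of_root X x₁ F hx₁ hx₁'
  obtain ⟨r, hr⟩ := hbij.2 (Curves.GlobalSections.h0Equiv (Coh.structureModule X.left) b)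
  refine ⟨r, ?_⟩
  rw [ProjKoszul.Regularity.h0Equiv_mapK, ClSub.Sections.toSubscheme_app, ← hr] at hb
  rw [← hx₁x, ← hb]
  rfl

end

end Groth.Agent.Lib.CohFlat74.Main
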