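import Groth.Agent.Lib.CohFlat74.Alg
import Groth.Agent.Lib.ModelFibre.H0Surj
import Groth.Agent.Lib.ModelFibre.RegularExt
import Groth.Agent.Lib.ModelFibre.GlobalFun
import Groth.Agent.Lib.Abhyankar.Val
import Groth.Agent.H4.CartierUFD
import Groth.Agent.H75.RedSub
import Groth.Prelude.Def_Pi1

/-!
# Functions on the closed fibre of a normal proper flat scheme over a discrete valuation ring
-/

set_option autoImplicit false
set_option linter.style.haveILetI false
set_option backward.isDefEq.respectTransparency.types false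

universe u

open CategoryTheory Limits AlgebraicGeometry IsLocalRing TopologicalSpace Opposite

namespace Groth.Agent.Lib.CohFlat74.Sections

open Groth.Agent.Lib Groth.Agent.Lib.ModelFibre

noncomputable section

/-- On a reduced connected scheme, a global section integral over a field of constants is zero at
every point or a unit at every point. -/
theorem zero_or_unit {Z : Scheme.{u}} [IsReduced Z] [PreconnectedSpace Z] {k : Type u} [Field k]
    (φ : k →+* Γ(Z, ⊤)) (x : Γ(Z, ⊤)) (hx : φ.IsIntegralElem x) : x = 0 ∨ IsUnit x := by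
  obtain ⟨P, hP, hPx⟩ := hx
  obtain ⟨Q, hQ, hQ0⟩ := P.exists_eq_pow_rootMultiplicity_mul_and_not_dvd hP.ne_zero 0
  rw [map_zero, sub_zero] at hQ hQ0
  rw [hQ, Polynomial.eval₂_mul, Polynomial.eval₂_X_pow] at hPx
  have hc : Q.eval 0 ≠ 0 := fun h => hQ0 (Polynomial.X_dvd_iff.mpr (by rwa [Polynomial.coeff_zero_eq_eval_zero]))
  set q := Q.eval₂ φ x with hq
  have hopen : (Z.basicOpen x : Set Z)ᶜ = Z.basicOpen q := by
    ext z
    rw [Set.mem_compl_iff, SetLike.mem_coe, SetLike.mem_coe, Scheme.mem_basicOpen Z x z trivial,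
      Scheme.mem_basicOpen Z q z trivial]
    set ev := (Z.presheaf.germ ⊤ z trivial).hom
    refine ⟨fun hz => ?_, fun hz hzx => ?_⟩
    · have h1 : residue _ (ev x) = 0 := (residue_eq_zero_iff _).mpr ((mem_maximalIdeal _).mpr hz)
      rw [← notMem_maximalIdeal, ← residue_eq_zero_iff]
      show ¬ residue _ (ev q) = 0
      rw [hq, Polynomial.hom_eval₂, Polynomial.hom_eval₂, h1, Polynomial.eval₂_at_zero]
      refine (map_ne_zero_iff _ (RingHom.injective _)).mpr ?_
      rwa [Polynomial.coeff_zero_eq_eval_zero]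
    · have h1 : IsUnit (ev (x ^ P.rootMultiplicity 0 * q)) := by
        rw [map_mul, map_pow]; exact (hzx.pow _).mul hz
      rw [hq, hPx, map_zero] at h1
      exact not_isUnit_zero h1
  rcases isClopen_iff.mp (⟨isOpen_compl_iff.mp (hopen ▸ (Z.basicOpen q).2), (Z.basicOpen x).2⟩ :
      IsClopen (Z.basicOpen x : Set Z)) with h | h
  · exact Or.inl (eq_zero_of_basicOpen_eq_bot _ (Opens.ext h))
  · exact Or.inr (DivisorField.isUnit_of_basicOpen_eq_top _ (Opens.ext h))

variable {R : Type u} [CommRing R] [IsDomain R] [IsDiscreteValuationRing R]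
  (X : Over (Spec (CommRingCat.of R))) [Flat X.hom] {π : R}

/-- The closed fibre. -/
abbrev Y : Scheme.{u} := (LiftH0.powI X 1).subscheme

/-- The inclusion of the closed fibre. -/
abbrev ι : Y X ⟶ X.left := (LiftH0.powI X 1).subschemeι

/-- The image of `π` in a local ring. -/
abbrev bπ (π : R) (x : X.left) : X.left.presheaf.stalk x := Stalk.baseHom X.hom x π

theorem ker_stalk (hπ : Irreducible π) (z : Y X) :
    RingHom.ker ((ι X).stalkMap z).hom = Ideal.span {bπ X π (ι X z)} := by
  rw [Groth.Agent.H4.CartierUFD.ker_stalkMap_subschemeι, LiftH0.stalk_powI X hπ, pow_one]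

theorem not_isUnit (hπ : Irreducible π) (z : Y X) : ¬ IsUnit (bπ X π (ι X z)) := fun h =>
  RingHom.ker_ne_top ((ι X).stalkMap z).hom (by rw [ker_stalk X hπ z]; exact Ideal.span_singleton_eq_top.mpr h)

theorem exists_point (hπ : Irreducible π) (x : X.left) (hx : ¬ IsUnit (bπ X π x)) : ∃ z, ι X z = x := by
  have h1 : x ∈ ((LiftH0.powI X 1).support : Set X.left) := by
    by_contra h
    have h2 := (StalkIdeal.stalkIdeal_eq_top_iff (LiftH0.powI X 1) x).mpr h
    rw [LiftH0.stalk_powI X hπ, pow_one, Ideal.span_singleton_eq_top] at h2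
    exact hx h2
  rw [← (LiftH0.powI X 1).range_subschemeι] at h1
  exact h1

theorem eq_closedPoint_iff (hπ : Irreducible π) (x : X.left) :
    ¬ IsUnit (bπ X π x) ↔ X.hom x = closedPoint R := by
  have h : x ∈ X.left.basicOpen (Coh.toGlobal X.hom π) ↔ π ∉ (X.hom x).asIdeal := by
    rw [show Coh.toGlobal X.hom π = RegularExt.glob X.hom π from rfl, RegularExt.basicOpen_toGlobal]
    rfl
  rw [show bπ X π x = X.left.presheaf.germ ⊤ x trivial (Coh.toGlobal X.hom π) from rfl,
    ← Scheme.mem_basicOpen X.left (Coh.toGlobal X.hom π) x trivial, h, not_not]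
  refine ⟨fun hm => PrimeSpectrum.ext ((IsLocalRing.maximalIdeal.isMaximal R).eq_of_le
    (X.hom x).isPrime.ne_top ?_).symm, fun hc => hc ▸ hπ.not_isUnit⟩
  rw [hπ.maximalIdeal_eq]
  exact (Ideal.span_singleton_le_iff_mem _).2 hm

theorem bπ_ne_zero (hπ : Irreducible π) (x : X.left) : bπ X π x ≠ 0 := fun h => by
  have := Chart.isSMulRegular_baseHom X.hom x (IsRegular.of_ne_zero hπ.ne_zero)
  exact one_ne_zero (this (show bπ X π x • (1 : X.left.presheaf.stalk x) = bπ X π x • 0 by
    rw [h, zero_smul, zero_smul]))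

/-- Two lifts differ by a multiple of `π`. -/
theorem exists_eq_add (hπ : Irreducible π) (z : Y X) {G G' : X.left.presheaf.stalk (ι X z)}
    (h : ((ι X).stalkMap z).hom G = ((ι X).stalkMap z).hom G') : ∃ r, G' = G + bπ X π (ι X z) * r := by
  have h1 : G' - G ∈ RingHom.ker ((ι X).stalkMap z).hom := by rw [RingHom.mem_ker, map_sub, h, sub_self]
  rw [ker_stalk X hπ z, Ideal.mem_span_singleton'] at h1
  obtain ⟨r, hr⟩ := h1
  exact ⟨r, by rw [mul_comm, hr, add_sub_cancel]⟩

variable [LocallyOfFiniteType X.hom] [IsIntegral X.left]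

/-- Divisibility along the fibre is tested at its points with discrete valuation local ring. -/
theorem germ_dvd (hπ : Irreducible π) (hn : Pi1.IsNormalScheme X.left) {W : X.left.Opens}
    (hW : IsAffineOpen W) (f : Γ(X.left, W)) (k : ℕ)
    (h : ∀ z : Y X, ∀ hz : ι X z ∈ W, IsDiscreteValuationRing (X.left.presheaf.stalk (ι X z)) →
      bπ X π (ι X z) ^ k ∣ X.left.presheaf.germ W (ι X z) hz f)
    (x : X.left) (hx : x ∈ W) : bπ X π x ^ k ∣ X.left.presheaf.germ W x hx f := by
  haveI : Nonempty W := ⟨⟨x, hx⟩⟩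
  haveI : IsLocallyNoetherian X.left := LocallyOfFiniteType.isLocallyNoetherian X.hom
  haveI : IsNoetherianRing Γ(X.left, W) := IsLocallyNoetherian.component_noetherian ⟨W, hW⟩
  haveI : IsIntegrallyClosed Γ(X.left, W) := IsIntegrallyClosed.of_localization_maximal fun P _ hP => by
    have hy : hW.fromSpec ⟨P, hP.isPrime⟩ ∈ W := hW.range_fromSpec.le ⟨_, rfl⟩
    haveI := (hn (hW.fromSpec ⟨P, hP.isPrime⟩)).2
    letI := TopCat.Presheaf.algebra_section_stalk X.left.presheaf (⟨_, hy⟩ : W)
    haveI : IsLocalization.AtPrime (X.left.presheaf.stalk (hW.fromSpec ⟨P, hP.isPrime⟩)) P :=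
      hW.isLocalization_stalk' ⟨P, hP.isPrime⟩ hy
    exact IsIntegrallyClosed.of_equiv (IsLocalization.algEquiv P.primeCompl
      (X.left.presheaf.stalk (hW.fromSpec ⟨P, hP.isPrime⟩)) (Localization.AtPrime P)).toRingEquiv
  set c : Γ(X.left, W) := X.left.presheaf.map (homOfLE (le_top : W ≤ ⊤)).op (Coh.toGlobal X.hom π) with hc
  have hgc : ∀ (y : X.left) (hy : y ∈ W), X.left.presheaf.germ W y hy c = bπ X π y := fun y hy =>
    TopCat.Presheaf.germ_res_apply X.left.presheaf (homOfLE le_top) y hy _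
  suffices hd : c ^ k ∣ f by
    have h1 := map_dvd (X.left.presheaf.germ W x hx).hom hd
    rw [map_pow, hgc] at h1
    exact h1
  by_contra hd
  have hc0 : c ≠ 0 := fun h0 => bπ_ne_zero X hπ x (by rw [← hgc x hx, h0, map_zero])
  obtain ⟨P, hP, hP1, hcP, hnd⟩ := Alg.exists_height_one_not_dvd (pow_ne_zero k hc0) hd
  haveI := hP
  have hPc : c ∈ P := by
    rcases Nat.eq_zero_or_pos k with rfl | hk
    · rw [pow_zero] at hcP; exact absurd ((Ideal.eq_top_iff_one P).mpr hcP) hP.ne_top
    · exact hP.mem_of_pow_mem k hcP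
  set y := hW.fromSpec ⟨P, hP⟩ with hy'
  have hy : y ∈ W := hW.range_fromSpec.le ⟨_, rfl⟩
  letI := TopCat.Presheaf.algebra_section_stalk X.left.presheaf (⟨y, hy⟩ : W)
  haveI : IsLocalization.AtPrime (X.left.presheaf.stalk y) P := hW.isLocalization_stalk' ⟨P, hP⟩ hy
  let e := (IsLocalization.algEquiv P.primeCompl (Localization.AtPrime P) (X.left.presheaf.stalk y))
  have hnu : ¬ IsUnit (bπ X π y) := by
    rw [← hgc y hy]
    exact fun hu => ((IsLocalization.AtPrime.isUnit_to_map_iff (X.left.presheaf.stalk y) P c).mp hu) hPc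
  obtain ⟨z, hz⟩ := exists_point X hπ y hnu
  have hne : P ≠ ⊥ := fun h0 => hc0 (by rw [h0, Ideal.mem_bot] at hPc; exact hPc)
  haveI := Abhyankar.Val.isDVR_atPrime Γ(X.left, W) P hne hP1.le
  have hdvr : IsDiscreteValuationRing (Localization.AtPrime P) := inferInstance
  refine hnd ?_
  have key : ∀ (y' : X.left) (hy' : y' ∈ W), y' = y → IsDiscreteValuationRing (X.left.presheaf.stalk y') := by
    rintro y' hy' rfl
    exact IsDiscreteValuationRing.RingEquivClass.isDiscreteValuationRing e
  have key2 : ∀ (y' : X.left) (hy' : y' ∈ W), y' = y →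
      bπ X π y' ^ k ∣ X.left.presheaf.germ W y' hy' f → bπ X π y ^ k ∣ X.left.presheaf.germ W y hy f := by
    rintro y' hy' rfl h'
    exact h'
  have hzW : ι X z ∈ W := hz ▸ hy
  have h2 := map_dvd e.symm.toRingEquiv.toRingHom (key2 _ hzW hz (h z hzW (key _ hzW hz)))
  rw [← hgc y hy, ← map_pow (X.left.presheaf.germ W y hy).hom] at h2
  have h3 : ∀ b, e.symm.toRingEquiv.toRingHom (X.left.presheaf.germ W y hy b) =
      algebraMap Γ(X.left, W) (Localization.AtPrime P) b := fun b => e.symm.commutes b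
  rwa [h3, h3] at h2

/-- The points of the fibre with discrete valuation local ring are finite in number. -/
theorem finite_dvr [IsProper X.hom] (hπ : Irreducible π) :
    {z : Y X | IsDiscreteValuationRing (X.left.presheaf.stalk (ι X z))}.Finite := by
  haveI : IsLocallyNoetherian (Y X) := LocallyOfFiniteType.isLocallyNoetherian (ι X ≫ X.hom)
  haveI : CompactSpace (Y X) := QuasiCompact.compactSpace_of_compactSpace (ι X ≫ X.hom)
  haveI : IsNoetherian (Y X) := {}
  have hmax : ∀ z ∈ {z : Y X | IsDiscreteValuationRing (X.left.presheaf.stalk (ι X z))},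
      ∀ z' : Y X, z' ⤳ z → z' = z := by
    intro z hz z' hzz'
    haveI : IsDiscreteValuationRing (X.left.presheaf.stalk (ι X z)) := hz
    obtain ⟨q, hq⟩ : ι X z' ∈ Set.range (X.left.fromSpecStalk (ι X z)) := by
      rw [Scheme.range_fromSpecStalk]; exact hzz'.map (ι X).continuous
    have hmem : bπ X π (ι X z) ∈ q.asIdeal := by
      have h1 := (eq_closedPoint_iff X hπ (ι X z')).mp (not_isUnit X hπ z')
      rw [← hq, ← Scheme.Hom.comp_apply, Stalk.fromSpecStalk_comp] at h1
      exact (congrArg PrimeSpectrum.asIdeal h1).ge (show π ∈ maximalIdeal R from hπ.not_isUnit)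
    have hqm : q = closedPoint (X.left.presheaf.stalk (ι X z)) := PrimeSpectrum.ext
      (IsLocalRing.eq_maximalIdeal (q.isPrime.isMaximal fun h0 =>
        bπ_ne_zero X hπ (ι X z) ((Submodule.eq_bot_iff _).mp h0 _ hmem)))
    refine (ι X).isClosedEmbedding.injective ?_
    rw [← hq, hqm, Scheme.fromSpecStalk_closedPoint]
  refine Set.Finite.of_finite_image (f := fun z => closure ({z} : Set (Y X)))
    ((NoetherianSpace.finite_irreducibleComponents (α := Y X)).subset ?_) ?_
  · rintro _ ⟨z, hz, rfl⟩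
    refine ⟨isIrreducible_singleton.closure, fun T hT hle => ?_⟩
    obtain ⟨t, ht⟩ := QuasiSober.sober hT.closure isClosed_closure
    have h1 : t = z := hmax z hz t (ht.specializes (subset_closure (hle (subset_closure rfl))))
    show T ⊆ closure {z}
    rw [← h1, ht.def]
    exact subset_closure
  · intro z hz z' hz' hzz'
    exact hmax z' hz' z (specializes_iff_mem_closure.mpr ((show closure ({z} : Set (Y X)) = closure {z'} from hzz').symm ▸ subset_closure rfl))

end

end Groth.Agent.Lib.CohFlat74.Sections
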